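import Groth.Prelude.Def_W4c5normfunctorschNorm
import Groth.Agent.PolLib.Extend
import Mathlib.RingTheory.Norm.Basic

/-!
# Base change of laws and of universal normic pairs along `R → Q`

`A` identifies `S ⊗[R] M'` with `S ⊗[Q] M''`; `res` restricts a law over `Q` to a law over `R`, `ext`
extends a law over `R` to one over `Q`.
-/

set_option autoImplicit false
universe u

open scoped TensorProduct

namespace Groth.Agent.ZBNormBC

section

variable {R Q : Type u} [CommRing R] [CommRing Q] [Algebra R Q]
  {M' : Type u} [AddCommGroup M'] [Module R M']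
  {M'' : Type u} [AddCommGroup M''] [Module R M''] [Module Q M''] [IsScalarTower R Q M'']
  {g : M' →ₗ[R] M''} (hg : IsBaseChange Q g)

/-- The identification of the two base changes. -/
noncomputable def A (S : Type u) [CommSemiring S] [Algebra R S] [Algebra Q S] [IsScalarTower R Q S] :
    S ⊗[R] M' ≃ₗ[S] S ⊗[Q] M'' :=
  (TensorProduct.AlgebraTensorModule.cancelBaseChange R Q S S M').symm ≪≫ₗ
    TensorProduct.AlgebraTensorModule.congr (LinearEquiv.refl S S) hg.equiv

@[simp] theorem A_tmul (S : Type u) [CommSemiring S] [Algebra R S] [Algebra Q S]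
    [IsScalarTower R Q S] (s : S) (m : M') : A hg S (s ⊗ₜ[R] m) = s ⊗ₜ[Q] g m := by
  simp [A, IsBaseChange.equiv_tmul]

theorem A_eq_bcAlong (P : Type u) [CommRing P] [Algebra R P] [Algebra Q P] [IsScalarTower R Q P]
    (x : P ⊗[R] M') : A hg P x = PolLaw.bcAlong g P x := by
  induction x using TensorProduct.induction_on with
  | zero => simp
  | tmul p m => simp [PolLaw.bcAlong]
  | add a b ha hb => simp [ha, hb]

theorem A_nat {S T : Type u} [CommSemiring S] [Algebra R S] [Algebra Q S] [IsScalarTower R Q S]
    [CommSemiring T] [Algebra R T] [Algebra Q T] [IsScalarTower R Q T] (φ : S →ₐ[Q] T)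
    (x : S ⊗[R] M') : φ.toLinearMap.rTensor M'' (A hg S x) =
      A hg T ((φ.restrictScalars R).toLinearMap.rTensor M' x) := by
  induction x using TensorProduct.induction_on with
  | zero => simp
  | tmul s m => simp
  | add a b ha hb => simp [ha, hb]

variable {E : Type u} [AddCommGroup E] [Module R E] [Module Q E] [IsScalarTower R Q E]

variable (Q E) in
/-- `(q ⊗ s) ⊗ e ↦ s ⊗ q e`. -/
noncomputable def beta (S : Type u) [CommSemiring S] [Algebra R S] :
    (Q ⊗[R] S) ⊗[Q] E →ₗ[R] S ⊗[R] E :=
  (TensorProduct.comm R E S).toLinearMap ∘ₗ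
    ((TensorProduct.AlgebraTensorModule.cancelBaseChange R Q Q E S).toLinearMap ∘ₗ
      (TensorProduct.comm Q (Q ⊗[R] S) E).toLinearMap).restrictScalars R

@[simp] theorem beta_tmul (S : Type u) [CommSemiring S] [Algebra R S] (q : Q) (s : S) (e : E) :
    beta Q E S ((q ⊗ₜ[R] s) ⊗ₜ[Q] e) = s ⊗ₜ[R] (q • e) := by
  simp [beta]

theorem beta_smul (S : Type u) [CommSemiring S] [Algebra R S] (s : S) (z : (Q ⊗[R] S) ⊗[Q] E) :
    beta Q E S (((1 : Q) ⊗ₜ[R] s) • z) = s • beta Q E S z := by
  induction z using TensorProduct.induction_on with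
  | zero => simp
  | tmul w e =>
    induction w using TensorProduct.induction_on with
    | zero => simp
    | tmul q t =>
      simp [TensorProduct.smul_tmul', Algebra.TensorProduct.tmul_mul_tmul, smul_eq_mul]
    | add a b ha hb => simp only [TensorProduct.add_tmul, smul_add, map_add, ha, hb]
  | add a b ha hb => simp only [smul_add, map_add, ha, hb]

/-- `1 ⊗ -`. -/
noncomputable def inc (S : Type u) [CommSemiring S] [Algebra R S] : S →ₐ[R] Q ⊗[R] S :=
  Algebra.TensorProduct.includeRight

/-- The law over `R` underlying a law over `Q`. -/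
noncomputable def res (μ : M'' →ₚₗ[Q] E) : M' →ₚₗ[R] E where
  toFun' S _ _ m :=
    beta Q E S (μ.toFun' (Q ⊗[R] S) (A hg (Q ⊗[R] S) ((inc (Q := Q) S).toLinearMap.rTensor M' m)))
  isCompat' {S} _ _ {T} _ _ φ := by
    funext m
    simp only [Function.comp_apply]
    let ψ : Q ⊗[R] S →ₐ[Q] Q ⊗[R] T := Algebra.TensorProduct.map (AlgHom.id Q Q) φ
    have h1 : (inc (Q := Q) T).comp φ = (ψ.restrictScalars R).comp (inc (Q := Q) S) :=
      AlgHom.ext fun s => by simp [ψ, inc]
    have h2 : ∀ z, φ.toLinearMap.rTensor E (beta Q E S z) =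
        beta Q E T (ψ.toLinearMap.rTensor E z) := fun z => by
      induction z using TensorProduct.induction_on with
      | zero => simp
      | tmul w e =>
        induction w using TensorProduct.induction_on with
        | zero => simp
        | tmul q t => simp [ψ]
        | add a b ha hb => simp only [TensorProduct.add_tmul, map_add, ha, hb]
      | add a b ha hb => simp only [map_add, ha, hb]
    rw [h2, ← Function.comp_apply (f := ψ.toLinearMap.rTensor E), μ.isCompat' ψ, Function.comp_apply,
      A_nat, ← LinearMap.rTensor_comp_apply, ← LinearMap.rTensor_comp_apply,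
      ← AlgHom.comp_toLinearMap, ← AlgHom.comp_toLinearMap, h1]

variable {E₀ : Type u} [AddCommGroup E₀] [Module R E₀]

/-- The law over `Q` extending a law over `R`. -/
noncomputable def extQ (μ : M' →ₚₗ[R] E₀) : M'' →ₚₗ[Q] (Q ⊗[R] E₀) where
  toFun' S _ _ m :=
    letI : Algebra R S := Algebra.compHom S (algebraMap R Q)
    haveI : IsScalarTower R Q S := IsScalarTower.of_algebraMap_eq' rfl
    (TensorProduct.AlgebraTensorModule.cancelBaseChange R Q S S E₀).symm
      (μ.toFun' S ((A hg S).symm m))
  isCompat' {S} _ _ {T} _ _ φ := by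
    letI : Algebra R S := Algebra.compHom S (algebraMap R Q)
    haveI : IsScalarTower R Q S := IsScalarTower.of_algebraMap_eq' rfl
    letI : Algebra R T := Algebra.compHom T (algebraMap R Q)
    haveI : IsScalarTower R Q T := IsScalarTower.of_algebraMap_eq' rfl
    funext m
    simp only [Function.comp_apply]
    obtain ⟨m, rfl⟩ := (A hg S).surjective m
    rw [A_nat, LinearEquiv.symm_apply_apply, LinearEquiv.symm_apply_apply,
      ← Function.comp_apply (f := μ.toFun' T), ← μ.isCompat' (φ.restrictScalars R),
      Function.comp_apply]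
    generalize μ.toFun' S m = z
    induction z using TensorProduct.induction_on with
    | zero => simp
    | tmul s e => simp
    | add a b ha hb => simp only [map_add, ha, hb]

theorem extQ_apply (μ : M' →ₚₗ[R] E₀) (S : Type u) [CommSemiring S] [i : Algebra R S] [Algebra Q S]
    [IsScalarTower R Q S] (m : S ⊗[Q] M'') : (extQ hg μ).toFun' S m =
      (TensorProduct.AlgebraTensorModule.cancelBaseChange R Q S S E₀).symm
        (μ.toFun' S ((A hg S).symm m)) := by
  have hi : i = Algebra.compHom S (algebraMap R Q) :=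
    Algebra.algebra_ext _ _ fun r => IsScalarTower.algebraMap_apply R Q S r
  subst hi
  rfl

end

section Normic

variable {R R' Q Q' : Type u} [CommRing R] [CommRing R'] [Algebra R R']
  [CommRing Q] [Algebra R Q] [CommRing Q'] [Algebra R Q'] [Algebra Q Q'] [Algebra R' Q']
  [IsScalarTower R Q Q'] [IsScalarTower R R' Q'] [Algebra.IsPushout R R' Q Q']
  [Module.Free R R'] [Module.Finite R R']
  {M' : Type u} [AddCommGroup M'] [Module R M'] [Module R' M'] [IsScalarTower R R' M']
  {M'' : Type u} [AddCommGroup M''] [Module R M''] [Module R' M''] [Module Q M''] [Module Q' M'']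
  [IsScalarTower R R' M''] [IsScalarTower R Q M''] [IsScalarTower R' Q' M''] [IsScalarTower Q Q' M'']
  (f : M' →ₗ[R'] M'')

omit [Module.Free R R'] [Module.Finite R R'] in
/-- `M''` is the base change of `M'` along `R → Q`. -/
theorem isBaseChange_restrict (hf : IsBaseChange Q' f) : IsBaseChange Q (f.restrictScalars R) := by
  haveI : Algebra.IsPushout R Q R' Q' := Algebra.IsPushout.symm inferInstance
  refine IsBaseChange.of_equiv
    ((Algebra.IsPushout.cancelBaseChange R Q R' Q' M').symm ≪≫ₗ hf.equiv.restrictScalars Q)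
    fun m => ?_
  simp [IsBaseChange.equiv_tmul]

variable (R' Q') in
/-- The identification of the two algebras over a test algebra. -/
noncomputable def C (P : Type u) [CommRing P] [Algebra R P] [Algebra Q P] [IsScalarTower R Q P] :
    P ⊗[R] R' ≃ₐ[P] P ⊗[Q] Q' :=
  haveI : Algebra.IsPushout R Q R' Q' := Algebra.IsPushout.symm inferInstance
  (Algebra.TensorProduct.cancelBaseChange R Q P P R').symm.trans
    (Algebra.TensorProduct.congr AlgEquiv.refl (Algebra.IsPushout.equiv R Q R' Q'))

omit [Module.Free R R'] [Module.Finite R R'] in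
@[simp] theorem C_tmul (P : Type u) [CommRing P] [Algebra R P] [Algebra Q P] [IsScalarTower R Q P]
    (p : P) (r : R') : C R' Q' P (p ⊗ₜ[R] r) = p ⊗ₜ[Q] algebraMap R' Q' r := by
  simp [C, Algebra.IsPushout.equiv_tmul]

variable {f} (hg : IsBaseChange Q (f.restrictScalars R))

omit [Module.Free R R'] [Module.Finite R R'] in
theorem A_actEnd (P : Type u) [CommRing P] [Algebra R P] [Algebra Q P] [IsScalarTower R Q P]
    (x : P ⊗[R] R') (m : P ⊗[R] M') :
    A hg P (PolLaw.actEnd M' P x m) = PolLaw.actEnd M'' P (C R' Q' P x) (A hg P m) := by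
  induction x using TensorProduct.induction_on with
  | zero => simp
  | tmul p r =>
    induction m using TensorProduct.induction_on with
    | zero => simp
    | tmul q b => simp
    | add a b ha hb => simp only [map_add, ha, hb]
  | add a b ha hb => simp only [map_add, LinearMap.add_apply, ha, hb]

theorem norm_rTensor {S T : Type u} [CommRing S] [Algebra R S] [CommRing T] [Algebra R T]
    (φ : S →ₐ[R] T) (x : S ⊗[R] R') :
    Algebra.norm T (Algebra.TensorProduct.map φ (AlgHom.id R R') x) = φ (Algebra.norm S x) := by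
  have h := PolLaw.detAct_map (B := R') R' φ x
  rw [PolLaw.detAct_self, PolLaw.detAct_self] at h
  rw [← h]

variable {E : Type u} [AddCommGroup E] [Module R E] [Module Q E] [IsScalarTower R Q E]

theorem isNormic_res (μ : M'' →ₚₗ[Q] E) (hμ : PolLaw.IsNormic Q' μ) :
    PolLaw.IsNormic R' (res hg μ) := by
  intro P _ _ x m
  show beta Q E P _ = _ • beta Q E P _
  rw [PolLaw.rTensor_actEnd, A_actEnd (Q' := Q') hg, hμ,
    Algebra.norm_eq_of_algEquiv (C (R := R) (Q := Q) R' Q' (Q ⊗[R] P)), norm_rTensor,
    ← beta_smul]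
  rfl

variable {E₀ : Type u} [AddCommGroup E₀] [Module R E₀]

omit [Module.Free R R'] [Module.Finite R R'] in
theorem isNormic_extQ (μ : M' →ₚₗ[R] E₀) (hμ : PolLaw.IsNormic R' μ) :
    PolLaw.IsNormic Q' (extQ hg μ) := by
  intro P _ _ y z
  letI : Algebra R P := Algebra.compHom P (algebraMap R Q)
  haveI : IsScalarTower R Q P := IsScalarTower.of_algebraMap_eq' rfl
  obtain ⟨x, rfl⟩ := (C (R := R) (Q := Q) R' Q' P).surjective y
  obtain ⟨m, rfl⟩ := (A hg P).surjective z
  rw [← A_actEnd hg, extQ_apply, extQ_apply, LinearEquiv.symm_apply_apply,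
    LinearEquiv.symm_apply_apply, hμ, map_smul, Algebra.norm_eq_of_algEquiv]

omit [Module.Free R R'] [Module.Finite R R'] in
theorem isNormic_postcomp {E₁ : Type u} [AddCommGroup E₁] [Module R E₁] (ν : M' →ₚₗ[R] E₀)
    (hν : PolLaw.IsNormic R' ν) (φ : E₀ →ₗ[R] E₁) : PolLaw.IsNormic R' (PolLaw.postcomp φ ν) := by
  intro P _ _ x m
  show φ.lTensor P _ = _ • φ.lTensor P _
  rw [hν, ← LinearMap.baseChange_eq_ltensor, map_smul]

end Normic

end Groth.Agent.ZBNormBC
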